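import Mathlib
import Cfsg.Agent.Lib.Helper97.TwoDegMain

/-!
# Groups with at most three character degrees: shared definitions (S4460 pack)

`ThreeDeg G m n`: every irreducible character of `G` has degree `1`, `m` or `n`
(so `G` has at most three character degrees).
-/

set_option autoImplicit false

namespace Cfsg.Agent.Lib.Helper38.CD3

open Cfsg Cfsg.Agent.Lib.Helper97

universe u

/-- every irreducible character of `G` has degree `1`, `m` or `n`. -/
def ThreeDeg (G : Type*) [Group G] (m n : ℕ) : Prop :=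
  ∀ χ : IrrCharacter G, charDegree (χ : G → ℂ) = 1 ∨ charDegree (χ : G → ℂ) = m ∨
    charDegree (χ : G → ℂ) = n

theorem ThreeDeg.symm {G : Type*} [Group G] {m n : ℕ} (h : ThreeDeg G m n) : ThreeDeg G n m := by
  intro χ
  rcases h χ with h1 | h1 | h1
  · exact Or.inl h1
  · exact Or.inr (Or.inr h1)
  · exact Or.inr (Or.inl h1)

theorem threeDeg_of_twoDeg {G : Type*} [Group G] {m : ℕ} (n : ℕ) (h : TwoDeg G m) :
    ThreeDeg G m n := by
  intro χ
  rcases h χ with h1 | h1
  · exact Or.inl h1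
  · exact Or.inr (Or.inl h1)

/-- if the degree `n` does not occur, `ThreeDeg G m n` is `TwoDeg G m`. -/
theorem ThreeDeg.twoDeg_left {G : Type*} [Group G] {m n : ℕ} (h : ThreeDeg G m n)
    (hn : ¬ ∃ χ : IrrCharacter G, charDegree (χ : G → ℂ) = n) : TwoDeg G m := by
  intro χ
  rcases h χ with h1 | h1 | h1
  · exact Or.inl h1
  · exact Or.inr h1
  · exact absurd ⟨χ, h1⟩ hn

/-- `ThreeDeg` passes to quotients. -/
theorem ThreeDeg.quotient {G : Type*} [Group G] [Finite G] {m n : ℕ} (h : ThreeDeg G m n)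
    (N : Subgroup G) [N.Normal] : ThreeDeg (G ⧸ N) m n := by
  intro ψ
  have hirr : IsIrrCharacter G (fun g : G => (ψ : G ⧸ N → ℂ) (QuotientGroup.mk g)) :=
    Cfsg.Agent.Lib.Helper83.isIrrCharacter_inflate N ψ.2
  have h1 := h ⟨_, hirr⟩
  have hdeg : charDegree (fun g : G => (ψ : G ⧸ N → ℂ) (QuotientGroup.mk g)) =
      charDegree (ψ : G ⧸ N → ℂ) := rfl
  rw [hdeg] at h1
  exact h1

end Cfsg.Agent.Lib.Helper38.CD3
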