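import Mathlib
import Cfsg.Agent.Lib.Helper38.CD3.Defs
import Cfsg.Agent.Lib.Helper03.CD3N3
import Cfsg.Agent.Lib.Helper14.CD3N2
import Cfsg.Agent.Lib.Helper14.CD3N8
import Cfsg.Agent.Lib.Helper21.CD3N1
import Cfsg.Agent.Lib.Helper21.CD3N11
import Cfsg.Agent.Lib.Helper21.CD3N9
import Cfsg.Agent.Lib.Helper34.CD3N4
import Cfsg.Agent.Lib.Helper36.CD3N5
import Cfsg.Agent.Lib.Helper61.CD3N10
import Cfsg.Agent.Lib.Helper63.CD3N6
import Cfsg.Agent.Lib.Helper81.CD3N7
import Cfsg.Agent.S4456
import Cfsg.Agent.Lib.Helper01.CD3Coprime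

/-!
# S4460: three character degrees, final glue (helper38)
-/

set_option autoImplicit false

namespace Cfsg.Agent.Lib.Helper38.CD3

open Cfsg Cfsg.Agent.Lib.Helper97
open Cfsg.Agent.Lib.Helper03.CD3 Cfsg.Agent.Lib.Helper14.CD3 Cfsg.Agent.Lib.Helper21.CD3 Cfsg.Agent.Lib.Helper34.CD3 Cfsg.Agent.Lib.Helper36.CD3 Cfsg.Agent.Lib.Helper61.CD3 Cfsg.Agent.Lib.Helper63.CD3 Cfsg.Agent.Lib.Helper81.CD3

universe u

/-- bridge to helper1's coprime half (function-API `ThreeDeg`). -/
theorem coprime_case {G : Type u} [Group G] [Finite G] {m n : ℕ} (h : ThreeDeg G m n)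
    (hm : ∃ χ : IrrCharacter G, charDegree (χ : G → ℂ) = m)
    (hn : ∃ χ : IrrCharacter G, charDegree (χ : G → ℂ) = n)
    (hm2 : 2 ≤ m) (hn2 : 2 ≤ n) (hcop : Nat.Coprime m n)
    (IH : ∀ (L : Subgroup G) [L.Normal], L ≠ ⊥ → derivedSeries (G ⧸ L) 3 = ⊥) :
    derivedSeries G 3 = ⊥ := by
  obtain ⟨χ, hχ⟩ := hm
  obtain ⟨ψ, hψ⟩ := hn
  exact Cfsg.Agent.Lib.Helper01.CD3.coprime_case hm2 hn2 hcop (fun φ hφ => h ⟨φ, hφ⟩)
    ⟨χ.1, χ.2, hχ⟩ ⟨ψ.1, ψ.2, hψ⟩ IH


theorem ordCompl_ppow {p : ℕ} (hp : p.Prime) (j : ℕ) :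
    p ^ j / p ^ (p ^ j).factorization p = 1 := by
  rw [hp.factorization_pow, Finsupp.single_eq_same]
  exact Nat.div_self (pow_pos hp.pos j)

theorem d3_of_twoDeg {G : Type u} [Group G] [Finite G] {c : ℕ} (h : TwoDeg G c) :
    derivedSeries G 3 = ⊥ := by
  have hc := comm_commutator_of_twoDeg h
  have h1 : derivedSeries G 1 = commutator G := by
    rw [derivedSeries_succ, derivedSeries_zero, commutator_def]
  have h2 : derivedSeries G 2 = ⊥ := by
    rw [derivedSeries_succ, h1, Subgroup.commutator_eq_bot_iff_le_centralizer]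
    intro a ha
    rw [Subgroup.mem_centralizer_iff]
    intro b hb
    exact hc b hb a ha
  rw [derivedSeries_succ, h2]
  exact Subgroup.commutator_bot_left _

theorem nc_main {G : Type u} [Group G] [Finite G] {m n : ℕ} (h : ThreeDeg G m n)
    (hm : ∃ χ : IrrCharacter G, charDegree (χ : G → ℂ) = m)
    (p : ℕ) (hp : p.Prime) (hpm : p ∣ m) (hpn : p ∣ n)
    (IH : ∀ (H : Subgroup G), Nat.card H < Nat.card G → ∀ m' n' : ℕ, ThreeDeg H m' n' →
      derivedSeries H 3 = ⊥) :
    derivedSeries G 3 = ⊥ := by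
  classical
  have hdeg : ∀ χ : IrrCharacter G, charDegree (χ : G → ℂ) ≠ 1 →
      p ∣ charDegree (χ : G → ℂ) := by
    intro χ hχ
    rcases h χ with h1 | h1 | h1
    · exact absurd h1 hχ
    · rw [h1]; exact hpm
    · rw [h1]; exact hpn
  obtain ⟨H, hHn, hcop, hidx⟩ := Cfsg.Agent.S4456.result p hp hdeg
  haveI := hHn
  have hlt : Nat.card H < Nat.card G := card_lt_of_coprime p hp hpm hm H hcop
  have hH3 := threeDeg_compl h p hp H hcop hidx
  have hq3 : ThreeDeg (G ⧸ ⁅H, H⁆) m n := h.quotient _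
  have hqp := ppow_degree_quot p hp H hidx
  by_cases hmp : ∃ j : ℕ, m = p ^ j
  · obtain ⟨jm, hjm⟩ := hmp
    have hm1 : m / p ^ m.factorization p = 1 := by rw [hjm]; exact ordCompl_ppow hp jm
    by_cases hnp : ∃ j : ℕ, n = p ^ j
    · obtain ⟨jn, hjn⟩ := hnp
      have hn1 : n / p ^ n.factorization p = 1 := by rw [hjn]; exact ordCompl_ppow hp jn
      have hHlin : ∀ θ : IrrCharacter H, charDegree (θ : H → ℂ) = 1 := by
        intro θ
        rcases hH3 θ with h1 | h1 | h1
        · exact h1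
        · rw [h1, hm1]
        · rw [h1, hn1]
      have hHab := comm_of_all_linear hHlin
      have hab : ∀ a ∈ H, ∀ b ∈ H, a * b = b * a := by
        intro a ha b hb
        exact congrArg Subtype.val (hHab ⟨a, ha⟩ ⟨b, hb⟩)
      letI : Fintype G := Fintype.ofFinite G
      have hM := monomial_of_abelian_ppow p hp H hab hidx
      rcases le_total m n with hmn | hmn
      · exact taketa_three h hmn hM
      · exact taketa_three h.symm hmn hM
    · have hqT : TwoDeg (G ⧸ ⁅H, H⁆) m := by
        intro χ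
        rcases hq3 χ with h1 | h1 | h1
        · exact Or.inl h1
        · exact Or.inr h1
        · exfalso
          obtain ⟨j, hj⟩ := hqp χ
          exact hnp ⟨j, by rw [← h1, hj]⟩
      have hHT : TwoDeg H (n / p ^ n.factorization p) := by
        intro θ
        rcases hH3 θ with h1 | h1 | h1
        · exact Or.inl h1
        · left; rw [h1, hm1]
        · exact Or.inr h1
      exact d3_of_twoDeg_quot H (comm_commutator_of_twoDeg hHT) hqT
  · by_cases hnp : ∃ j : ℕ, n = p ^ j
    · obtain ⟨jn, hjn⟩ := hnp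
      have hn1 : n / p ^ n.factorization p = 1 := by rw [hjn]; exact ordCompl_ppow hp jn
      have hqT : TwoDeg (G ⧸ ⁅H, H⁆) n := by
        intro χ
        rcases hq3 χ with h1 | h1 | h1
        · exact Or.inl h1
        · exfalso
          obtain ⟨j, hj⟩ := hqp χ
          exact hmp ⟨j, by rw [← h1, hj]⟩
        · exact Or.inr h1
      have hHT : TwoDeg H (m / p ^ m.factorization p) := by
        intro θ
        rcases hH3 θ with h1 | h1 | h1
        · exact Or.inl h1
        · exact Or.inr h1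
        · left; rw [h1, hn1]
      exact d3_of_twoDeg_quot H (comm_commutator_of_twoDeg hHT) hqT
    · have hlin : ∀ χ : IrrCharacter (G ⧸ ⁅H, H⁆), charDegree (χ : G ⧸ ⁅H, H⁆ → ℂ) = 1 := by
        intro χ
        rcases hq3 χ with h1 | h1 | h1
        · exact h1
        · exfalso
          obtain ⟨j, hj⟩ := hqp χ
          exact hmp ⟨j, by rw [← h1, hj]⟩
        · exfalso
          obtain ⟨j, hj⟩ := hqp χ
          exact hnp ⟨j, by rw [← h1, hj]⟩
      exact d3_of_commutator_le H (commutator_le_of_linear _ hlin) (IH H hlt _ _ hH3)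

theorem main_aux : ∀ (N : ℕ) (G : Type u) [Group G] [Finite G], Nat.card G = N →
    ∀ m n : ℕ, ThreeDeg G m n → derivedSeries G 3 = ⊥ := by
  intro N
  induction N using Nat.strong_induction_on with
  | _ N ih =>
    intro G _ _ hN m n h
    by_cases hm : ∃ χ : IrrCharacter G, charDegree (χ : G → ℂ) = m
    swap
    · exact d3_of_twoDeg (h.symm.twoDeg_left hm)
    by_cases hn : ∃ χ : IrrCharacter G, charDegree (χ : G → ℂ) = n
    swap
    · exact d3_of_twoDeg (h.twoDeg_left hn)
    by_cases hm2 : 2 ≤ m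
    swap
    · have hT : TwoDeg G n := by
        intro χ
        rcases h χ with h1 | h1 | h1
        · exact Or.inl h1
        · left
          have := Cfsg.Agent.Lib.Helper83.irr_charDegree_pos χ
          omega
        · exact Or.inr h1
      exact d3_of_twoDeg hT
    by_cases hn2 : 2 ≤ n
    swap
    · have hT : TwoDeg G m := by
        intro χ
        rcases h χ with h1 | h1 | h1
        · exact Or.inl h1
        · exact Or.inr h1
        · left
          have := Cfsg.Agent.Lib.Helper83.irr_charDegree_pos χ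
          omega
      exact d3_of_twoDeg hT
    by_cases hcop : Nat.Coprime m n
    · apply coprime_case h hm hn hm2 hn2 hcop
      intro L _ hL
      have hlt : Nat.card (G ⧸ L) < N := by
        have h1 : Nat.card L * L.index = Nat.card G := L.card_mul_index
        have h2 : 1 < Nat.card L := (Subgroup.one_lt_card_iff_ne_bot L).mpr hL
        have h3 : 0 < L.index := Nat.pos_of_ne_zero Subgroup.index_ne_zero_of_finite
        have h4 : Nat.card (G ⧸ L) = L.index := rfl
        rw [h4, ← hN, ← h1]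
        nlinarith
      exact ih _ hlt (G ⧸ L) rfl m n (h.quotient L)
    · obtain ⟨p, hp, hpm, hpn⟩ := Nat.Prime.not_coprime_iff_dvd.mp hcop
      apply nc_main h hm p hp hpm hpn
      intro H hlt m' n' hH
      exact ih _ (hN ▸ hlt) H rfl m' n' hH

theorem main {G : Type u} [Group G] [Finite G]
    (hcd : Nat.card {n : ℕ // ∃ χ : IrrCharacter G, charDegree (χ : G → ℂ) = n} = 3) :
    derivedSeries G 3 = ⊥ := by
  obtain ⟨m, n, h⟩ := exists_threeDeg_of_card hcd
  exact main_aux _ G rfl m n h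

end Cfsg.Agent.Lib.Helper38.CD3
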